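import Mathlib
import Cfsg.Prelude.Def_DegreeGraph
import Cfsg.Prelude.Def_CharExt
import Cfsg.Agent.Helper15.DetChar
import Cfsg.Agent.Helper15.CliffordCorr
import Cfsg.Agent.Helper81.CliffordInd
import Cfsg.Agent.Helper74.CharBasic
import Cfsg.Agent.Helper74.LinTwist
import Cfsg.Agent.Helper81.LinTwist
import Cfsg.Agent.Helper80.CharLevel
import Cfsg.Agent.Helper80.Linear
import Cfsg.Agent.Helper79.RelDegDS

/-!
# The `r`-part of an irreducible character of a normal subgroup

For a normal subgroup `N` of a finite group `G`, a prime `r` and a character `θ` of `N`, we define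
`Phi N r θ : N →* ℂˣ`, a power of the determinantal character of `θ` (as a homomorphism), chosen so
that, when `r ∤ θ(1)`, it is the unique linear character `λ` of `r`-power order such that
`λ⁻¹θ` has determinantal order prime to `r`.  It is compatible with conjugation by `G` and with
twisting by linear characters.
-/

set_option autoImplicit false
set_option linter.unusedSectionVars false
set_option linter.unusedVariables false

namespace Cfsg.Agent.Helper80.RelDeg

open Cfsg Cfsg.Agent.Helper15 Cfsg.Agent.Helper74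

universe u

/-! ### The exponent -/

/-- An exponent `w` with `w * d ≡ 1` modulo the `r`-part of `M` and `w ≡ 0` modulo the `r'`-part
of `M` (when `r ∤ d`). -/
noncomputable def wexp (r M d : ℕ) : ℕ :=
  ordCompl[r] M * (((ordCompl[r] M * d : ℕ) : ZMod (ordProj[r] M))⁻¹).val

theorem ordCompl_dvd_wexp (r M d : ℕ) : ordCompl[r] M ∣ wexp r M d :=
  Dvd.intro _ rfl

theorem wexp_mul_modEq {r M d : ℕ} (hr : r.Prime) (hM : M ≠ 0) (hd : ¬ r ∣ d) :
    wexp r M d * d ≡ 1 [MOD ordProj[r] M] := by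
  have hcop : Nat.Coprime (ordCompl[r] M * d) (ordProj[r] M) := by
    apply Nat.Coprime.pow_right
    apply Nat.Coprime.mul_left
    · exact (Nat.coprime_ordCompl hr hM).symm
    · exact ((Nat.Prime.coprime_iff_not_dvd hr).mpr hd).symm
  have : NeZero (ordProj[r] M) := ⟨pow_ne_zero _ hr.ne_zero⟩
  have h1 := ZMod.coe_mul_inv_eq_one (ordCompl[r] M * d) hcop
  rw [← ZMod.natCast_eq_natCast_iff]
  unfold wexp
  push_cast
  rw [ZMod.natCast_zmod_val]
  push_cast at h1
  linear_combination h1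

section pow

variable {A : Type*} [CommGroup A] [Finite A]

theorem pow_wexp_mul {r d : ℕ} (hr : r.Prime) (hd : ¬ r ∣ d) {a : A}
    (ha : a ^ (ordProj[r] (Nat.card A)) = 1) : a ^ (wexp r (Nat.card A) d * d) = a := by
  have hM : Nat.card A ≠ 0 := Nat.card_pos.ne'
  have h1 := wexp_mul_modEq hr hM hd
  have h2 : orderOf a ∣ ordProj[r] (Nat.card A) := orderOf_dvd_of_pow_eq_one ha
  have h3 : wexp r (Nat.card A) d * d ≡ 1 [MOD orderOf a] := h1.of_dvd h2
  have := (pow_eq_pow_iff_modEq (x := a)).mpr h3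
  rw [this, pow_one]

theorem pow_wexp_eq_one (r d : ℕ) {a : A} (ha : a ^ (ordCompl[r] (Nat.card A)) = 1) :
    a ^ (wexp r (Nat.card A) d) = 1 := by
  obtain ⟨c, hc⟩ := ordCompl_dvd_wexp r (Nat.card A) d
  rw [hc, pow_mul, ha, one_pow]

theorem pow_wexp_pow_ordProj (r d : ℕ) (a : A) :
    (a ^ (wexp r (Nat.card A) d)) ^ (ordProj[r] (Nat.card A)) = 1 := by
  obtain ⟨c, hc⟩ := ordCompl_dvd_wexp r (Nat.card A) d
  rw [← pow_mul, hc, mul_comm, ← mul_assoc, Nat.ordProj_mul_ordCompl_eq_self, pow_mul,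
    pow_card_eq_one', one_pow]

theorem pow_ordCompl_eq_one_of_coprime {r : ℕ} (hr : r.Prime) {a : A}
    (ha : Nat.Coprime (orderOf a) r) : a ^ (ordCompl[r] (Nat.card A)) = 1 := by
  apply orderOf_dvd_iff_pow_eq_one.mp
  have h1 : orderOf a ∣ Nat.card A := orderOf_dvd_natCard a
  rw [← Nat.ordProj_mul_ordCompl_eq_self (Nat.card A) r] at h1
  exact (Nat.Coprime.pow_right _ ha).dvd_of_dvd_mul_left h1

theorem pow_ordCompl_eq_one_of_pow_prime {r q k : ℕ} (hr : r.Prime) (hq : q.Prime) (hrq : r ≠ q)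
    {a : A} (ha : a ^ (q ^ k) = 1) : a ^ (ordCompl[r] (Nat.card A)) = 1 := by
  apply pow_ordCompl_eq_one_of_coprime hr
  have h1 : orderOf a ∣ q ^ k := orderOf_dvd_of_pow_eq_one ha
  apply Nat.Coprime.coprime_dvd_left h1
  apply Nat.Coprime.pow_left
  exact (Nat.coprime_primes hq hr).mpr (Ne.symm hrq)

theorem pow_ordProj_eq_one_of_pow_prime {r k : ℕ} (hr : r.Prime) {a : A}
    (ha : a ^ (r ^ k) = 1) : a ^ (ordProj[r] (Nat.card A)) = 1 := by
  apply orderOf_dvd_iff_pow_eq_one.mp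
  have h1 : orderOf a ∣ r ^ k := orderOf_dvd_of_pow_eq_one ha
  have h2 : orderOf a ∣ Nat.card A := orderOf_dvd_natCard a
  obtain ⟨j, _, hj⟩ := (Nat.dvd_prime_pow hr).mp h1
  rw [hj] at h2 ⊢
  exact (Nat.pow_dvd_pow_iff_le_right hr.one_lt).mpr
    ((hr.pow_dvd_iff_le_factorization Nat.card_pos.ne').mp h2)

theorem eq_one_of_pow_ordProj_of_pow_ordCompl {r : ℕ} (hr : r.Prime) {a : A}
    (h1 : a ^ (ordProj[r] (Nat.card A)) = 1) (h2 : a ^ (ordCompl[r] (Nat.card A)) = 1) :
    a = 1 := by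
  have hM : Nat.card A ≠ 0 := Nat.card_pos.ne'
  have hcop : Nat.Coprime (ordProj[r] (Nat.card A)) (ordCompl[r] (Nat.card A)) :=
    Nat.Coprime.pow_left _ (Nat.coprime_ordCompl hr hM)
  have h3 : orderOf a ∣ 1 := by
    rw [← Nat.Coprime.gcd_eq_one hcop]
    exact Nat.dvd_gcd (orderOf_dvd_of_pow_eq_one h1) (orderOf_dvd_of_pow_eq_one h2)
  exact orderOf_eq_one_iff.mp (Nat.dvd_one.mp h3)

theorem mul_pow_wexp {r d : ℕ} (hr : r.Prime) (hd : ¬ r ∣ d) {a : A}
    (ha : a ^ (ordProj[r] (Nat.card A)) = 1) (b : A) :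
    (a ^ d * b) ^ wexp r (Nat.card A) d = a * b ^ wexp r (Nat.card A) d := by
  rw [mul_pow, ← pow_mul, mul_comm d, pow_wexp_mul hr hd ha]

theorem mul_pow_wexp' (r d : ℕ) {a : A} (ha : a ^ (ordCompl[r] (Nat.card A)) = 1) (b : A) :
    (a ^ d * b) ^ wexp r (Nat.card A) d = b ^ wexp r (Nat.card A) d := by
  rw [mul_pow, ← pow_mul, mul_comm d, pow_mul, pow_wexp_eq_one r d ha, one_pow, one_mul]

/-- If `r` divides the order of `a`, then the `r`-part `a ^ wexp r M 1` is not trivial. -/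
theorem pow_wexp_one_ne_one {r : ℕ} (hr : r.Prime) {a : A} (ha : r ∣ orderOf a) :
    a ^ (wexp r (Nat.card A) 1) ≠ 1 := by
  intro h
  have hM : Nat.card A ≠ 0 := Nat.card_pos.ne'
  have h1 : orderOf a ∣ wexp r (Nat.card A) 1 := orderOf_dvd_of_pow_eq_one h
  have h2 : r ∣ wexp r (Nat.card A) 1 := ha.trans h1
  have h3 := wexp_mul_modEq (d := 1) hr hM (by
    intro h; exact hr.one_lt.ne' (Nat.dvd_one.mp h))
  rw [mul_one] at h3
  have h4 : r ∣ ordProj[r] (Nat.card A) := by
    have : r ∣ Nat.card A := ha.trans (orderOf_dvd_natCard a)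
    have hpos : 0 < (Nat.card A).factorization r :=
      hr.factorization_pos_of_dvd hM this
    exact dvd_pow_self r hpos.ne'
  have h5 : wexp r (Nat.card A) 1 ≡ 1 [MOD r] := h3.of_dvd h4
  have h6 : (0 : ℕ) ≡ 1 [MOD r] := ((Nat.modEq_zero_iff_dvd.mpr h2).symm).trans h5
  have h7 : r ∣ 1 := (Nat.modEq_zero_iff_dvd.mp h6.symm)
  exact hr.one_lt.ne' (Nat.dvd_one.mp h7)

end pow


/-! ### The determinantal character as a homomorphism -/

section detL

variable {H : Type u} [Group H] [Finite H]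

theorem charDegree_congr {χ ψ : H → ℂ} (h : χ 1 = ψ 1) : charDegree χ = charDegree ψ := by
  unfold charDegree
  rw [h]

/-- The determinantal character of a character of `H`, as a homomorphism `H →* ℂˣ`
(the trivial homomorphism for a function that is not a character). -/
noncomputable def detL (θ : H → ℂ) : H →* ℂˣ :=
  haveI := Classical.propDecidable (IsCharacter H θ)
  if h : IsCharacter H θ then
    Classical.choose (IsCharacter.exists_monoidHom (isCharacter_detChar h).1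
      (isCharacter_detChar h).2)
  else 1

theorem detL_spec {θ : H → ℂ} (h : IsCharacter H θ) (x : H) :
    detChar θ x = ((detL θ x : ℂˣ) : ℂ) := by
  unfold detL
  rw [dif_pos h]
  exact Classical.choose_spec (IsCharacter.exists_monoidHom (isCharacter_detChar h).1
      (isCharacter_detChar h).2) x

theorem detL_eq_of {θ : H → ℂ} (h : IsCharacter H θ) (κ : H →* ℂˣ)
    (hκ : ∀ x, detChar θ x = ((κ x : ℂˣ) : ℂ)) : detL θ = κ := by
  ext x
  rw [← detL_spec h x, hκ x]

theorem linFun_mul_eq (κ : H →* ℂˣ) (θ : H → ℂ) :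
    linFun κ * θ = fun x => ((κ x : ℂˣ) : ℂ) * θ x := rfl

theorem isCharacter_linFun (κ : H →* ℂˣ) : IsCharacter H (linFun κ) :=
  IsIrrCharacter.isCharacter (Helper80.isIrrCharacter_of_monoidHom κ)

theorem isCharacter_linFun_mul (κ : H →* ℂˣ) {θ : H → ℂ} (h : IsCharacter H θ) :
    IsCharacter H (linFun κ * θ) :=
  Helper81.isCharacter_twist κ h

theorem isIrrCharacter_linFun_mul (κ : H →* ℂˣ) {θ : H → ℂ} (h : IsIrrCharacter H θ) :
    IsIrrCharacter H (linFun κ * θ) :=
  Helper81.isIrrCharacter_twist κ h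

theorem isIrrCharacter_linFun (κ : H →* ℂˣ) : IsIrrCharacter H (linFun κ) :=
  Helper80.isIrrCharacter_of_monoidHom κ

theorem linFun_one_apply (κ : H →* ℂˣ) : linFun κ 1 = 1 := by
  unfold linFun
  rw [map_one, Units.val_one]

theorem charDegree_linFun (κ : H →* ℂˣ) : charDegree (linFun κ) = 1 := by
  have h := IsCharacter.charDegree_cast (isCharacter_linFun κ)
  rw [linFun_one_apply] at h
  exact_mod_cast h

theorem charDegree_linFun_mul (κ : H →* ℂˣ) (θ : H → ℂ) :
    charDegree (linFun κ * θ) = charDegree θ := by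
  apply charDegree_congr
  rw [Pi.mul_apply, linFun_one_apply, one_mul]

theorem linFun_mul (κ κ' : H →* ℂˣ) : linFun (κ * κ') = linFun κ * linFun κ' := by
  funext x
  unfold linFun
  rw [Pi.mul_apply, MonoidHom.mul_apply, Units.val_mul]

theorem linFun_one : linFun (1 : H →* ℂˣ) = fun _ => 1 := by
  funext x
  unfold linFun
  rw [MonoidHom.one_apply, Units.val_one]

theorem linFun_ne_zero (κ : H →* ℂˣ) (x : H) : linFun κ x ≠ 0 := by
  unfold linFun
  exact Units.ne_zero _

theorem linFun_mul_cancel (κ : H →* ℂˣ) {θ φ : H → ℂ} (h : linFun κ * θ = linFun κ * φ) :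
    θ = φ := by
  funext x
  have := congrFun h x
  rw [Pi.mul_apply, Pi.mul_apply] at this
  exact mul_left_cancel₀ (linFun_ne_zero κ x) this

theorem detL_twist (κ : H →* ℂˣ) {θ : H → ℂ} (h : IsCharacter H θ) :
    detL (linFun κ * θ) = κ ^ (charDegree θ) * detL θ := by
  apply detL_eq_of (isCharacter_linFun_mul κ h)
  intro x
  rw [detChar_twist (isCharacter_linFun κ) (linFun_one_apply κ) h (charDegree θ)
    (IsCharacter.charDegree_cast h).symm x, detL_spec h x]
  rw [MonoidHom.mul_apply, MonoidHom.pow_apply, Units.val_mul, Units.val_pow_eq_pow_val]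
  rfl

theorem detL_linFun (κ : H →* ℂˣ) : detL (linFun κ) = κ := by
  apply detL_eq_of (isCharacter_linFun κ)
  intro x
  let ρ : Representation ℂ H (Fin 1 → ℂ) :=
    { toFun := fun g => ((κ g : ℂˣ) : ℂ) • (1 : Module.End ℂ (Fin 1 → ℂ))
      map_one' := by simp
      map_mul' := fun a b => by
        rw [map_mul, Units.val_mul, smul_mul_smul_comm, mul_one] }
  have hρ : ρ.character = linFun κ := by
    funext g
    simp [Representation.character, ρ, linFun]
  rw [← hρ, detChar_eq_det]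
  show LinearMap.det (((κ x : ℂˣ) : ℂ) • (1 : Module.End ℂ (Fin 1 → ℂ))) = _
  rw [LinearMap.det_smul]
  simp

/-- The `r`-part of a character `θ` of `H`: a suitable power of its determinantal character. -/
noncomputable def Phi (r : ℕ) (θ : H → ℂ) : H →* ℂˣ :=
  detL θ ^ wexp r (Nat.card (H →* ℂˣ)) (charDegree θ)

theorem Phi_pow_ordProj (r : ℕ) (θ : H → ℂ) :
    Phi r θ ^ (ordProj[r] (Nat.card (H →* ℂˣ))) = 1 := by
  unfold Phi
  exact pow_wexp_pow_ordProj (A := H →* ℂˣ) r _ _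

theorem Phi_twist {r : ℕ} (hr : r.Prime) {θ : H → ℂ} (h : IsCharacter H θ)
    (hd : ¬ r ∣ charDegree θ) {κ : H →* ℂˣ}
    (hκ : κ ^ (ordProj[r] (Nat.card (H →* ℂˣ))) = 1) :
    Phi r (linFun κ * θ) = κ * Phi r θ := by
  unfold Phi
  rw [detL_twist κ h, charDegree_linFun_mul]
  exact mul_pow_wexp (A := H →* ℂˣ) hr hd hκ _

theorem Phi_twist' (r : ℕ) {θ : H → ℂ} (h : IsCharacter H θ) {κ : H →* ℂˣ}
    (hκ : κ ^ (ordCompl[r] (Nat.card (H →* ℂˣ))) = 1) :
    Phi r (linFun κ * θ) = Phi r θ := by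
  unfold Phi
  rw [detL_twist κ h, charDegree_linFun_mul]
  exact mul_pow_wexp' (A := H →* ℂˣ) r _ hκ _

theorem Phi_linFun (r : ℕ) (κ : H →* ℂˣ) :
    Phi r (linFun κ) = κ ^ wexp r (Nat.card (H →* ℂˣ)) 1 := by
  unfold Phi
  rw [detL_linFun, charDegree_linFun]

theorem Phi_linFun_of_ordProj {r : ℕ} (hr : r.Prime) {κ : H →* ℂˣ}
    (hκ : κ ^ (ordProj[r] (Nat.card (H →* ℂˣ))) = 1) : Phi r (linFun κ) = κ := by
  rw [Phi_linFun]
  have := pow_wexp_mul (A := H →* ℂˣ) (d := 1) hr (by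
    intro h; exact hr.one_lt.ne' (Nat.dvd_one.mp h)) hκ
  rwa [mul_one] at this

theorem Phi_linFun_of_ordCompl (r : ℕ) {κ : H →* ℂˣ}
    (hκ : κ ^ (ordCompl[r] (Nat.card (H →* ℂˣ))) = 1) : Phi r (linFun κ) = 1 := by
  rw [Phi_linFun]
  exact pow_wexp_eq_one (A := H →* ℂˣ) r 1 hκ

theorem Phi_linFun_mul (r : ℕ) (κ κ' : H →* ℂˣ) :
    Phi r (linFun (κ * κ')) = Phi r (linFun κ) * Phi r (linFun κ') := by
  rw [Phi_linFun, Phi_linFun, Phi_linFun]
  exact mul_pow (M := H →* ℂˣ) _ _ _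

theorem Phi_linFun_one (r : ℕ) : Phi r (linFun (1 : H →* ℂˣ)) = 1 := by
  rw [Phi_linFun]
  exact one_pow (M := H →* ℂˣ) _

end detL


/-! ### Abstract power lemmas used for the determinant of a Clifford restriction -/

section aux

variable {A : Type*} [CommGroup A]

theorem pow_card_mul_eq_one {ι : Type*} (s : Finset ι) (f : ι → A) (a : A) (e w : ℕ)
    (h : (∏ i ∈ s, f i) ^ e = 1) (hf : ∀ i ∈ s, f i ^ w = a) : a ^ (s.card * e) = 1 := by
  have h1 : ((∏ i ∈ s, f i) ^ e) ^ w = 1 := by rw [h, one_pow]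
  rw [pow_right_comm, ← Finset.prod_pow, Finset.prod_congr rfl hf, Finset.prod_const,
    ← pow_mul] at h1
  exact h1

theorem eq_one_of_pow_of_pow_coprime {a : A} {m n : ℕ} (hm : a ^ m = 1) (hn : a ^ n = 1)
    (h : Nat.Coprime m n) : a = 1 := by
  have := (pow_gcd_eq_one (a := a) (m := m) (n := n)).mpr ⟨hm, hn⟩
  rwa [Nat.Coprime.gcd_eq_one h, pow_one] at this

end aux

/-! ### The normal subgroup setting -/

section normal

variable {G : Type u} [Group G] [Fintype G] (N : Subgroup G) [hN : N.Normal] [Fintype N]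

/-- Conjugation of linear characters of `N` by `g : G`, matching `conjFun`. -/
noncomputable def cjL (g : G) (κ : N →* ℂˣ) : N →* ℂˣ :=
  κ.comp (MulAut.conjNormal g : MulAut N).toMonoidHom

theorem linFun_cjL (g : G) (κ : N →* ℂˣ) : linFun (cjL N g κ) = conjFun N g (linFun κ) := by
  rw [conjFun_eq_comp]
  rfl

theorem cjL_mul (g : G) (κ κ' : N →* ℂˣ) : cjL N g (κ * κ') = cjL N g κ * cjL N g κ' := rfl

theorem cjL_one (g : G) : cjL N g 1 = 1 := rfl

theorem cjL_pow (g : G) (κ : N →* ℂˣ) (k : ℕ) : cjL N g (κ ^ k) = cjL N g κ ^ k := rfl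

theorem mem_inertia_linFun_iff (g : G) (κ : N →* ℂˣ) :
    g ∈ inertia N (linFun κ) ↔ cjL N g κ = κ := by
  rw [mem_inertia, ← linFun_cjL]
  exact ⟨fun h => linFun_injective h, fun h => by rw [h]⟩

theorem charDegree_conjFun (g : G) (θ : N → ℂ) : charDegree (conjFun N g θ) = charDegree θ := by
  apply charDegree_congr
  rw [conjFun_apply]
  congr 1
  apply Subtype.ext
  simp

theorem detL_conj (g : G) {θ : N → ℂ} (hθ : IsCharacter N θ) :
    detL (conjFun N g θ) = cjL N g (detL θ) := by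
  apply detL_eq_of (isCharacter_conjFun N hθ g)
  intro n
  rw [conjFun_eq_comp]
  have := detChar_comp (MulAut.conjNormal g : MulAut N).toMonoidHom hθ n
  rw [detL_spec hθ] at this
  exact this

theorem Phi_conj (r : ℕ) (g : G) {θ : N → ℂ} (hθ : IsCharacter N θ) :
    Phi r (conjFun N g θ) = cjL N g (Phi r θ) := by
  unfold Phi
  rw [detL_conj N g hθ, charDegree_conjFun, cjL_pow]

theorem inertia_le_inertia_Phi (r : ℕ) {θ : N → ℂ} (hθ : IsCharacter N θ) :
    inertia N θ ≤ inertia N (linFun (Phi r θ)) := by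
  intro g hg
  rw [mem_inertia] at hg
  rw [mem_inertia_linFun_iff, ← Phi_conj N r g hθ, hg]

/-- Clifford's theorem with a natural number as ramification, and the degree formula. -/
theorem clifford_nat {χ : G → ℂ} (hχ : IsIrrCharacter G χ) {θ : N → ℂ}
    (hθ : IsIrrCharacter N θ) (hθχ : classInner (fun n : N => χ n) θ ≠ 0) :
    ∃ e : ℕ, (fun n : N => χ n) = e • ∑ φ ∈ conjOrbit N θ, φ ∧
      charDegree χ = e * (inertia N θ).index * charDegree θ := by
  have h := clifford_restrict N hχ hθ hθχ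
  have hres : IsCharacter N (fun n : N => χ n) :=
    IsCharacter.comp_hom (IsIrrCharacter.isCharacter hχ) N.subtype
  obtain ⟨e, he⟩ := isCharacter_inner_irr_nat hres ⟨θ, hθ⟩
  have he' : classInner (fun n : N => χ n) θ = e := he
  rw [he'] at h
  refine ⟨e, ?_, ?_⟩
  · rw [h]
    funext n
    simp only [Pi.smul_apply, smul_eq_mul, nsmul_eq_mul]
  · have h1 := congrFun h 1
    simp only [Pi.smul_apply, Finset.sum_apply, smul_eq_mul] at h1
    have h2 : ∀ φ ∈ conjOrbit N θ, φ 1 = θ 1 := by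
      intro φ hφ
      obtain ⟨g, rfl⟩ := (mem_conjOrbit N).1 hφ
      rw [conjFun_apply]
      congr 1
      apply Subtype.ext
      simp
    rw [Finset.sum_congr rfl h2, Finset.sum_const, card_conjOrbit, nsmul_eq_mul] at h1
    have h3 : (χ ((1 : N) : G)) = χ 1 := by simp
    rw [h3, ← IsCharacter.charDegree_cast (IsIrrCharacter.isCharacter hχ),
      ← IsCharacter.charDegree_cast (IsIrrCharacter.isCharacter hθ)] at h1
    have : ((charDegree χ : ℕ) : ℂ) =
        ((e * (inertia N θ).index * charDegree θ : ℕ) : ℂ) := by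
      push_cast
      rw [h1]; ring
    exact_mod_cast this

/-- (C1) orbit size times degree divides the degree of a character lying over. -/
theorem index_mul_degree_dvd {χ : G → ℂ} (hχ : IsIrrCharacter G χ) {θ : N → ℂ}
    (hθ : IsIrrCharacter N θ) (hθχ : classInner (fun n : N => χ n) θ ≠ 0) :
    (inertia N θ).index * charDegree θ ∣ charDegree χ := by
  obtain ⟨e, -, he⟩ := clifford_nat N hχ hθ hθχ
  rw [he, mul_assoc]
  exact Dvd.intro_left _ rfl

theorem index_Phi_dvd (r : ℕ) {χ : G → ℂ} (hχ : IsIrrCharacter G χ) {θ : N → ℂ}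
    (hθ : IsIrrCharacter N θ) (hθχ : classInner (fun n : N => χ n) θ ≠ 0) :
    (inertia N (linFun (Phi r θ))).index ∣ charDegree χ := by
  have h1 := Subgroup.index_dvd_of_le (inertia_le_inertia_Phi N r (IsIrrCharacter.isCharacter hθ))
  exact (h1.trans (Dvd.intro _ rfl)).trans (index_mul_degree_dvd N hχ hθ hθχ)

/-- The determinantal character of an irreducible character of `G` is trivial on `N ≤ G'`. -/
theorem detChar_restrict_eq_one (hNG : N ≤ commutator G) {χ : G → ℂ} (hχ : IsCharacter G χ)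
    (n : N) : detChar (fun x : N => χ x) n = 1 := by
  rw [detChar_restrict N hχ n]
  obtain ⟨φ, hφ⟩ := IsCharacter.exists_monoidHom (isCharacter_detChar hχ).1
    (isCharacter_detChar hχ).2
  have hker : (n : G) ∈ φ.ker := Abelianization.commutator_subset_ker φ (hNG n.2)
  rw [hφ, MonoidHom.mem_ker.mp hker, Units.val_one]

/-- (C2) if `r ∤ χ(1)`, `N ≤ G'` and the `r`-part of a constituent `θ` of `χ_N` is `G`-invariant,
then it is trivial. -/
theorem Phi_eq_one_of_invariant (hNG : N ≤ commutator G) {χ : G → ℂ} (hχ : IsIrrCharacter G χ)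
    {θ : N → ℂ} (hθ : IsIrrCharacter N θ) (hθχ : classInner (fun n : N => χ n) θ ≠ 0)
    {r : ℕ} (hr : r.Prime) (hrχ : ¬ r ∣ charDegree χ)
    (hinv : ∀ g : G, cjL N g (Phi r θ) = Phi r θ) : Phi r θ = 1 := by
  obtain ⟨e, hres, hdeg⟩ := clifford_nat N hχ hθ hθχ
  have horb : ∀ φ ∈ conjOrbit N θ, IsCharacter N φ := fun φ hφ =>
    IsIrrCharacter.isCharacter (isIrrCharacter_of_mem_conjOrbit N hθ hφ)
  -- the product of the determinants
  have h3 : (∏ φ ∈ conjOrbit N θ, detL φ) ^ e = 1 := by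
    ext n
    have h1 := detChar_restrict_eq_one N hNG (IsIrrCharacter.isCharacter hχ) n
    rw [hres, Helper79.RelDeg.detChar_nsmul_finset_sum _ _ horb e n] at h1
    rw [MonoidHom.pow_apply, MonoidHom.finsetProd_apply, MonoidHom.one_apply, Units.val_one,
      Units.val_pow_eq_pow_val, Units.coe_prod, ← h1]
    congr 1
    exact Finset.prod_congr rfl (fun φ hφ => (detL_spec (horb φ hφ) n).symm)
  have h4 : ∀ φ ∈ conjOrbit N θ,
      detL φ ^ wexp r (Nat.card (N →* ℂˣ)) (charDegree θ) = Phi r θ := by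
    intro φ hφ
    obtain ⟨g, rfl⟩ := (mem_conjOrbit N).1 hφ
    have := Phi_conj N r g (IsIrrCharacter.isCharacter hθ)
    rw [hinv g] at this
    rw [← this]
    unfold Phi
    rw [charDegree_conjFun]
  have h5 := pow_card_mul_eq_one (A := N →* ℂˣ) (conjOrbit N θ) detL (Phi r θ) e _ h3 h4
  rw [card_conjOrbit] at h5
  have h6 := Phi_pow_ordProj r θ
  apply eq_one_of_pow_of_pow_coprime (A := N →* ℂˣ) h5 h6
  apply Nat.Coprime.pow_right
  rw [Nat.coprime_comm, Nat.Prime.coprime_iff_not_dvd hr]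
  intro h
  apply hrχ
  rw [hdeg, mul_comm e]
  exact h.mul_right _

/-- Contrapositive of (C2). -/
theorem dvd_of_Phi_invariant (hNG : N ≤ commutator G) {χ : G → ℂ} (hχ : IsIrrCharacter G χ)
    {θ : N → ℂ} (hθ : IsIrrCharacter N θ) (hθχ : classInner (fun n : N => χ n) θ ≠ 0)
    {r : ℕ} (hr : r.Prime) (hne : Phi r θ ≠ 1)
    (hinv : ∀ g : G, cjL N g (Phi r θ) = Phi r θ) : r ∣ charDegree χ := by
  by_contra h
  exact hne (Phi_eq_one_of_invariant N hNG hχ hθ hθχ hr h hinv)

/-- If the `r`-part of `θ` is not trivial and `r ∤ χ(1)`, its inertia group is proper. -/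
theorem index_Phi_ne_one (hNG : N ≤ commutator G) {χ : G → ℂ} (hχ : IsIrrCharacter G χ)
    {θ : N → ℂ} (hθ : IsIrrCharacter N θ) (hθχ : classInner (fun n : N => χ n) θ ≠ 0)
    {r : ℕ} (hr : r.Prime) (hrχ : ¬ r ∣ charDegree χ) (hne : Phi r θ ≠ 1) :
    (inertia N (linFun (Phi r θ))).index ≠ 1 := by
  intro h
  apply hne
  apply Phi_eq_one_of_invariant N hNG hχ hθ hθχ hr hrχ
  intro g
  rw [← mem_inertia_linFun_iff]
  rw [Subgroup.index_eq_one] at h
  rw [h]
  exact Subgroup.mem_top g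

/-! ### Lying over and the relative degree set -/

/-- (R3) every irreducible character of `N` lies under an irreducible character of `G`. -/
theorem exists_irr_over {θ : N → ℂ} (hθ : IsIrrCharacter N θ) :
    ∃ χ : G → ℂ, IsIrrCharacter G χ ∧ classInner (fun n : N => χ n) θ ≠ 0 := by
  have hind : IsCharacter G (indFun N θ) :=
    isCharacter_indFun N (IsIrrCharacter.isCharacter hθ)
  have h1 : indFun N θ 1 ≠ 0 := by
    rw [indFun_apply_one]
    refine mul_ne_zero ?_ (IsIrrCharacter.map_one_ne_zero hθ)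
    exact_mod_cast N.index_ne_zero_of_finite
  obtain ⟨χ, hχ⟩ := Helper81.exists_irr_constituent hind h1
  refine ⟨χ, χ.2, ?_⟩
  rw [frobenius_reciprocity N θ χ
    (IsCharacter.isClassFunction (IsIrrCharacter.isCharacter χ.2))] at hχ
  intro h0
  apply hχ
  rw [← Helper15.classInner_conj_symm, h0, map_zero]

/-- (R1) an irreducible character whose kernel does not contain `N` lies over a nontrivial
irreducible character of `N`. -/
theorem exists_over_ne_one {χ : G → ℂ} (hχ : IsIrrCharacter G χ)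
    (hx : ∃ x ∈ N, χ x ≠ χ 1) :
    ∃ θ : N → ℂ, IsIrrCharacter N θ ∧ classInner (fun n : N => χ n) θ ≠ 0 ∧
      θ ≠ linFun (1 : N →* ℂˣ) := by
  have hres : IsCharacter N (fun n : N => χ n) :=
    IsCharacter.comp_hom (IsIrrCharacter.isCharacter hχ) N.subtype
  have h1 : (fun n : N => χ n) 1 ≠ 0 := by
    show χ ((1 : N) : G) ≠ 0
    rw [Subgroup.coe_one]
    exact IsIrrCharacter.map_one_ne_zero hχ
  obtain ⟨θ, hθ⟩ := Helper81.exists_irr_constituent hres h1
  refine ⟨θ, θ.2, hθ, ?_⟩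
  intro h
  obtain ⟨e, hres', -⟩ := clifford_nat N hχ θ.2 hθ
  obtain ⟨x, hxN, hx⟩ := hx
  apply hx
  have hconst : ∀ n : N, (fun n : N => χ n) n = (e : ℂ) * (conjOrbit N (θ : N → ℂ)).card := by
    intro n
    rw [hres']
    simp only [Pi.smul_apply, Finset.sum_apply, nsmul_eq_mul]
    have h2 : ∀ φ ∈ conjOrbit N (θ : N → ℂ), φ n = 1 := by
      intro φ hφ
      obtain ⟨g, rfl⟩ := (mem_conjOrbit N).1 hφ
      rw [conjFun_apply, h, linFun_one]
    rw [Finset.sum_congr rfl h2, Finset.sum_const, nsmul_eq_mul, mul_one]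
  have ha := hconst ⟨x, hxN⟩
  have hb := hconst 1
  simp only [Subgroup.coe_one] at ha hb
  rw [ha, hb]

/-- (R2) an irreducible character lying over a nontrivial irreducible character of `N` does not
have `N` in its kernel. -/
theorem exists_ne_of_over {χ : G → ℂ} (hχ : IsIrrCharacter G χ) {θ : N → ℂ}
    (hθ : IsIrrCharacter N θ) (hθχ : classInner (fun n : N => χ n) θ ≠ 0)
    (hne : θ ≠ linFun (1 : N →* ℂˣ)) : ∃ x ∈ N, χ x ≠ χ 1 := by
  refine Classical.byContradiction fun h => ?_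
  have h : ∀ x ∈ N, χ x = χ 1 := by
    intro x hx
    refine Classical.byContradiction fun h' => ?_
    exact h ⟨x, hx, h'⟩
  apply hθχ
  have h1 : (fun n : N => χ n) = (χ 1) • linFun (1 : N →* ℂˣ) := by
    funext n
    rw [Pi.smul_apply, linFun_one, smul_eq_mul, mul_one]
    exact h n n.2
  have h2 : (⟨linFun (1 : N →* ℂˣ), isIrrCharacter_linFun 1⟩ : IrrCharacter N) ≠ ⟨θ, hθ⟩ := by
    intro h3
    exact hne (congrArg Subtype.val h3).symm
  have h3 : classInner (linFun (1 : N →* ℂˣ)) θ = 0 := by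
    have h3' := irr_inner_ne h2
    exact h3'
  have h4 : classInner (fun n : N => χ n) θ = classInner ((χ 1) • linFun (1 : N →* ℂˣ)) θ :=
    congrArg (fun f => classInner f θ) h1
  rw [h4, Helper74.classInner_smul_left, h3, mul_zero]

theorem mem_relCharDegrees_of_over {χ : G → ℂ} (hχ : IsIrrCharacter G χ) {θ : N → ℂ}
    (hθ : IsIrrCharacter N θ) (hθχ : classInner (fun n : N => χ n) θ ≠ 0)
    (hne : θ ≠ linFun (1 : N →* ℂˣ)) : charDegree χ ∈ relCharDegrees N :=
  ⟨⟨χ, hχ⟩, exists_ne_of_over N hχ hθ hθχ hne, rfl⟩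

theorem ne_linFun_one_of_Phi_ne_one {r : ℕ} {θ : N → ℂ} (h : Phi r θ ≠ 1) :
    θ ≠ linFun (1 : N →* ℂˣ) := by
  intro h1
  apply h
  rw [h1, Phi_linFun_one]

end normal

end Cfsg.Agent.Helper80.RelDeg
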