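import Mathlib
import Cfsg.Agent.Helper80.RelDeg.Phi
import Cfsg.Agent.Helper79.RelDegCL
import Cfsg.Agent.Helper14.RelDegOP

/-!
# Adjacency lemmas for the relative degree graph `Γ(G|N)`, `N ≤ G'`

`adj1`, `adj2`, `adj4` produce common divisors of degrees of characters lying over suitable
characters of `N`; `reach_main` is the main reachability statement used for Isaacs' theorem on
the number of connected components of `Γ(G|N)`.
-/

set_option autoImplicit false
set_option linter.unusedSectionVars false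
set_option linter.unusedVariables false
set_option linter.style.haveILetI false
set_option warn.classDefReducibility false

namespace Cfsg.Agent.Helper80.RelDeg

open Cfsg Cfsg.Agent.Helper15 Cfsg.Agent.Helper74

universe u

theorem gcd_gt_one {u a b : ℕ} (hu : 1 < u) (ha : 0 < a) (hua : u ∣ a) (hub : u ∣ b) :
    1 < Nat.gcd a b := by
  have h1 : u ∣ Nat.gcd a b := Nat.dvd_gcd hua hub
  have h2 : 0 < Nat.gcd a b := Nat.gcd_pos_of_pos_left b ha
  exact lt_of_lt_of_le hu (Nat.le_of_dvd h2 h1)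

theorem gcd_gt_one_of_not_coprime {u v a b : ℕ} (h : ¬ Nat.Coprime u v) (ha : 0 < a)
    (hua : u ∣ a) (hvb : v ∣ b) : 1 < Nat.gcd a b := by
  have h1 : Nat.gcd u v ∣ Nat.gcd a b :=
    Nat.dvd_gcd ((Nat.gcd_dvd_left u v).trans hua) ((Nat.gcd_dvd_right u v).trans hvb)
  have h2 : 0 < Nat.gcd a b := Nat.gcd_pos_of_pos_left b ha
  by_contra h3
  have h4 : Nat.gcd a b = 1 := by omega
  rw [h4, Nat.dvd_one] at h1
  exact h h1

section

variable {G : Type u} [Group G] [Fintype G] (N : Subgroup G) [hN : N.Normal] [Fintype N]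

/-- `χ ∈ Irr(G)` lies over `ζ ∈ Irr(N)`. -/
structure Over (χ : G → ℂ) (ζ : N → ℂ) : Prop where
  irrG : IsIrrCharacter G χ
  irrN : IsIrrCharacter N ζ
  con : classInner (fun n : N => χ n) ζ ≠ 0

variable {N}

theorem Over.pos {χ : G → ℂ} {ζ : N → ℂ} (h : Over N χ ζ) : 0 < charDegree χ :=
  IsIrrCharacter.charDegree_pos h.irrG

theorem Over.index_Phi_dvd {χ : G → ℂ} {ζ : N → ℂ} (h : Over N χ ζ) (r : ℕ) :
    (inertia N (linFun (Phi r ζ))).index ∣ charDegree χ :=
  RelDeg.index_Phi_dvd N r h.irrG h.irrN h.con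

theorem Over.dvd {χ : G → ℂ} {ζ : N → ℂ} (h : Over N χ ζ) :
    (inertia N ζ).index * charDegree ζ ∣ charDegree χ :=
  index_mul_degree_dvd N h.irrG h.irrN h.con

theorem Over.degree_dvd {χ : G → ℂ} {ζ : N → ℂ} (h : Over N χ ζ) :
    charDegree ζ ∣ charDegree χ :=
  (Dvd.intro_left _ rfl).trans h.dvd

theorem Over.mem {χ : G → ℂ} {ζ : N → ℂ} (h : Over N χ ζ) (hne : ζ ≠ linFun (1 : N →* ℂˣ)) :
    charDegree χ ∈ relCharDegrees N :=
  mem_relCharDegrees_of_over N h.irrG h.irrN h.con hne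

theorem exists_over {ζ : N → ℂ} (hζ : IsIrrCharacter N ζ) : ∃ χ : G → ℂ, Over N χ ζ := by
  obtain ⟨χ, h1, h2⟩ := exists_irr_over N hζ
  exact ⟨χ, h1, hζ, h2⟩

theorem index_inertia_ne_zero (ζ : N → ℂ) : (inertia N ζ).index ≠ 0 :=
  Subgroup.index_ne_zero_of_finite

/-- (Adj2) two characters of `G` lying over characters of `N` with the same nontrivial `r`-part
have degrees with a common divisor. -/
theorem adj2 (hNG : N ≤ commutator G) {r : ℕ} (hr : r.Prime) {χ₁ χ₂ : G → ℂ} {ζ₁ ζ₂ : N → ℂ}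
    (h₁ : Over N χ₁ ζ₁) (h₂ : Over N χ₂ ζ₂) (hΦ : Phi r ζ₁ = Phi r ζ₂) (hne : Phi r ζ₁ ≠ 1) :
    1 < Nat.gcd (charDegree χ₁) (charDegree χ₂) := by
  by_cases hinv : ∀ g : G, cjL N g (Phi r ζ₁) = Phi r ζ₁
  · have d1 := dvd_of_Phi_invariant N hNG h₁.irrG h₁.irrN h₁.con hr hne hinv
    have d2 := dvd_of_Phi_invariant N hNG h₂.irrG h₂.irrN h₂.con hr (hΦ ▸ hne) (hΦ ▸ hinv)
    exact gcd_gt_one hr.one_lt h₁.pos d1 d2
  · have hu : (inertia N (linFun (Phi r ζ₁))).index ≠ 1 := by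
      intro h
      apply hinv
      intro g
      rw [← mem_inertia_linFun_iff, Subgroup.index_eq_one.mp h]
      exact Subgroup.mem_top g
    have hu0 := index_inertia_ne_zero (N := N) (linFun (Phi r ζ₁))
    have d1 := h₁.index_Phi_dvd r
    have d2 := h₂.index_Phi_dvd r
    rw [← hΦ] at d2
    exact gcd_gt_one (by omega) h₁.pos d1 d2

/-- (Adj1) twisting a `q`-canonical constituent by a linear character of `q`-power order keeps a
common divisor with the original degree. -/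
theorem adj1 (hNG : N ≤ commutator G) {q : ℕ} (hq : q.Prime) {χ : G → ℂ} {η : N → ℂ}
    (h : Over N χ η) (hη1 : η ≠ linFun (1 : N →* ℂˣ)) (hqb : ¬ q ∣ charDegree χ)
    (hΦ : Phi q η = 1) {κ : N →* ℂˣ} (hκ : κ ^ (ordProj[q] (Nat.card (N →* ℂˣ))) = 1)
    {χ' : G → ℂ} (h' : Over N χ' (linFun κ * η)) :
    1 < Nat.gcd (charDegree χ') (charDegree χ) := by
  have hηc : IsCharacter N η := IsIrrCharacter.isCharacter h.irrN
  have hqη : ¬ q ∣ charDegree η := fun hd => hqb (hd.trans h.degree_dvd)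
  have hΦ' : Phi q (linFun κ * η) = κ := by
    rw [Phi_twist hq hηc hqη hκ, hΦ]
    exact mul_one (M := N →* ℂˣ) κ
  -- the inertia group of the twist lies in that of `η`
  have hle : inertia N (linFun κ * η) ≤ inertia N η := by
    intro g hg
    have h1 := inertia_le_inertia_Phi N q (isCharacter_linFun_mul κ hηc) hg
    rw [hΦ', mem_inertia_linFun_iff] at h1
    rw [mem_inertia] at hg ⊢
    rw [conjFun_mul_fun, ← linFun_cjL, h1] at hg
    exact linFun_mul_cancel κ hg
  have d1 : (inertia N η).index * charDegree η ∣ charDegree χ := h.dvd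
  have d2 : (inertia N η).index * charDegree η ∣ charDegree χ' := by
    refine dvd_trans ?_ h'.dvd
    rw [charDegree_linFun_mul]
    exact Nat.mul_dvd_mul (Subgroup.index_dvd_of_le hle) dvd_rfl
  by_cases hu : (inertia N η).index * charDegree η = 1
  · -- `η` is linear and invariant
    have hi : (inertia N η).index = 1 := Nat.eq_one_of_mul_eq_one_right hu
    have hd : charDegree η = 1 := Nat.eq_one_of_mul_eq_one_left hu
    have hη11 : η 1 = 1 := by
      rw [← IsCharacter.charDegree_cast hηc, hd, Nat.cast_one]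
    obtain ⟨η₀, hη₀⟩ := IsCharacter.exists_monoidHom hηc hη11
    have hηlin : η = linFun η₀ := funext hη₀
    subst hηlin
    have hη₀ne : η₀ ≠ 1 := fun h0 => hη1 (by rw [h0])
    have hinv : ∀ g : G, cjL N g η₀ = η₀ := by
      intro g
      rw [← mem_inertia_linFun_iff, Subgroup.index_eq_one.mp hi]
      exact Subgroup.mem_top g
    have hord : orderOf η₀ ≠ 1 := fun h0 => hη₀ne (orderOf_eq_one_iff.mp h0)
    obtain ⟨r, hr, hrd⟩ := Nat.exists_prime_and_dvd hord
    have hrq : r ≠ q := by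
      intro hrq
      subst hrq
      rw [Phi_linFun] at hΦ
      exact pow_wexp_one_ne_one (A := N →* ℂˣ) hr hrd hΦ
    have hne : Phi r (linFun η₀) ≠ 1 := by
      rw [Phi_linFun]
      exact pow_wexp_one_ne_one (A := N →* ℂˣ) hr hrd
    have hinv' : ∀ g : G, cjL N g (Phi r (linFun η₀)) = Phi r (linFun η₀) := by
      intro g
      rw [Phi_linFun, cjL_pow, hinv g]
    have e1 := dvd_of_Phi_invariant N hNG h.irrG h.irrN h.con hr hne hinv'
    have hκ' : κ ^ (ordCompl[r] (Nat.card (N →* ℂˣ))) = 1 :=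
      pow_ordCompl_eq_one_of_pow_prime (A := N →* ℂˣ) hr hq hrq hκ
    have hΦr : Phi r (linFun κ * linFun η₀) = Phi r (linFun η₀) := Phi_twist' r hηc hκ'
    have e2 := dvd_of_Phi_invariant N hNG h'.irrG h'.irrN h'.con hr (hΦr ▸ hne)
      (by rw [hΦr]; exact hinv')
    exact gcd_gt_one hr.one_lt h'.pos e2 e1
  · have hu0 : (inertia N η).index * charDegree η ≠ 0 :=
      Nat.mul_ne_zero (index_inertia_ne_zero η) (IsIrrCharacter.charDegree_pos h.irrN).ne'
    exact gcd_gt_one (by omega) h'.pos d2 d1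


/-! ### The action of `G` on the linear characters of `N` and the orbit-product lemma -/

theorem cjL_comp (a b : G) (κ : N →* ℂˣ) : cjL N (a * b) κ = cjL N b (cjL N a κ) := by
  ext n
  unfold cjL
  simp only [MonoidHom.comp_apply, map_mul]
  rfl

theorem cjL_one_left (κ : N →* ℂˣ) : cjL N (1 : G) κ = κ := by
  ext n
  unfold cjL
  simp only [MonoidHom.comp_apply, map_one]
  rfl

variable (N) in
/-- The (left) action of `G` on the group of linear characters of `N`. -/
noncomputable def linAction : MulDistribMulAction G (N →* ℂˣ) where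
  smul g κ := cjL N g⁻¹ κ
  one_smul κ := by
    show cjL N (1 : G)⁻¹ κ = κ
    rw [inv_one, cjL_one_left]
  mul_smul g h κ := by
    show cjL N (g * h)⁻¹ κ = cjL N g⁻¹ (cjL N h⁻¹ κ)
    rw [mul_inv_rev, cjL_comp]
  smul_mul g κ κ' := cjL_mul N g⁻¹ κ κ'
  smul_one g := cjL_one N g⁻¹

theorem stabilizer_eq_inertia (κ : N →* ℂˣ) :
    @MulAction.stabilizer G (N →* ℂˣ) _ (linAction N).toMulAction κ = inertia N (linFun κ) := by
  ext g
  letI := linAction N
  rw [MulAction.mem_stabilizer_iff]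
  show cjL N g⁻¹ κ = κ ↔ _
  rw [← mem_inertia_linFun_iff, Subgroup.inv_mem_iff]

/-- The orbit-product lemma in terms of inertia groups. -/
theorem orbProd_inertia (p : ℕ) (hp : p.Prime) (x y : N →* ℂˣ)
    (hcop : Nat.Coprime (inertia N (linFun x)).index (inertia N (linFun y)).index)
    (hy : (inertia N (linFun y)).index ≠ 1)
    (hpx : ¬ p ∣ (inertia N (linFun x)).index)
    (hyp : ∃ k : ℕ, y ^ (p ^ k) = 1) :
    ¬ Nat.Coprime (inertia N (linFun (x * y))).index (inertia N (linFun y)).index := by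
  letI := linAction N
  have := Helper14.RelDeg.orbProd (G := G) (A := N →* ℂˣ) p hp x y
    (by rw [stabilizer_eq_inertia, stabilizer_eq_inertia]; exact hcop)
    (by rw [stabilizer_eq_inertia]; exact hy)
    (by rw [stabilizer_eq_inertia]; exact hpx) hyp
  rw [stabilizer_eq_inertia, stabilizer_eq_inertia] at this
  exact this

/-- (Adj4) both `p`-parts nontrivial, coprime `p'`-degrees. -/
theorem adj4 (hNG : N ≤ commutator G) {p : ℕ} (hp : p.Prime) {χ ψ : G → ℂ} {θ η : N → ℂ}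
    (h₁ : Over N χ θ) (h₂ : Over N ψ η) (hpa : ¬ p ∣ charDegree χ) (hpb : ¬ p ∣ charDegree ψ)
    (hcop : Nat.Coprime (charDegree χ) (charDegree ψ)) (hl : Phi p θ ≠ 1) (hm : Phi p η ≠ 1)
    {χ' : G → ℂ} (h' : Over N χ' (linFun (Phi p θ * Phi p η))) :
    1 < Nat.gcd (charDegree χ) (charDegree χ') ∧ 1 < Nat.gcd (charDegree χ') (charDegree ψ) ∧
      Phi p θ * Phi p η ≠ 1 := by
  have da := h₁.index_Phi_dvd p
  have db := h₂.index_Phi_dvd p
  have na := index_Phi_ne_one N hNG h₁.irrG h₁.irrN h₁.con hp hpa hl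
  have nb := index_Phi_ne_one N hNG h₂.irrG h₂.irrN h₂.con hp hpb hm
  have hc : Nat.Coprime (inertia N (linFun (Phi p θ))).index
      (inertia N (linFun (Phi p η))).index :=
    Nat.Coprime.coprime_dvd_left da (Nat.Coprime.coprime_dvd_right db hcop)
  have pa : ¬ p ∣ (inertia N (linFun (Phi p θ))).index := fun h => hpa (h.trans da)
  have pb : ¬ p ∣ (inertia N (linFun (Phi p η))).index := fun h => hpb (h.trans db)
  have k1 := orbProd_inertia p hp (Phi p θ) (Phi p η) hc nb pa ⟨_, Phi_pow_ordProj p η⟩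
  have k2 := orbProd_inertia p hp (Phi p η) (Phi p θ) hc.symm na pb ⟨_, Phi_pow_ordProj p θ⟩
  have hcomm : Phi p η * Phi p θ = Phi p θ * Phi p η := mul_comm (G := N →* ℂˣ) _ _
  rw [hcomm] at k2
  have dc : (inertia N (linFun (Phi p θ * Phi p η))).index ∣ charDegree χ' := by
    have := h'.dvd
    rw [charDegree_linFun, mul_one] at this
    exact this
  refine ⟨?_, ?_, ?_⟩
  · rw [Nat.gcd_comm]
    exact gcd_gt_one_of_not_coprime k2 h'.pos dc da
  · exact gcd_gt_one_of_not_coprime k1 h'.pos dc db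
  · intro h1
    apply k1
    rw [h1]
    have : inertia N (linFun (1 : N →* ℂˣ)) = ⊤ := by
      ext g
      rw [mem_inertia_linFun_iff]
      simp [cjL_one]
    rw [this, Subgroup.index_top]
    exact Nat.coprime_one_left _


/-! ### Reachability -/

theorem reach_of_gcd {V : Set ℕ} {a b : ℕ} (ha : a ∈ V) (hb : b ∈ V) (h : 1 < Nat.gcd a b) :
    (commonDivisorGraph.induce V).Reachable ⟨a, ha⟩ ⟨b, hb⟩ := by
  by_cases hab : a = b
  · subst hab
    exact SimpleGraph.Reachable.refl _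
  · apply SimpleGraph.Adj.reachable
    show commonDivisorGraph.Adj a b
    exact ⟨hab, h⟩

theorem linFun_ne_one {κ : N →* ℂˣ} (h : κ ≠ 1) : linFun κ ≠ linFun (1 : N →* ℂˣ) :=
  fun h1 => h (linFun_injective h1)

theorem pow_ordProj_of_pow_prime {p : ℕ} (hp : p.Prime) {κ : N →* ℂˣ} (h : κ ^ p = 1) :
    κ ^ (ordProj[p] (Nat.card (N →* ℂˣ))) = 1 :=
  pow_ordProj_eq_one_of_pow_prime (A := N →* ℂˣ) (k := 1) hp (by rw [pow_one]; exact h)

/-- `r`-parts of a product of a linear character of `p`-power order and one of `q`-power order. -/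
theorem Phi_linFun_mul_primes {p q : ℕ} (hp : p.Prime) (hq : q.Prime) (hpq : p ≠ q)
    {α β : N →* ℂˣ} (hα : α ^ (ordProj[p] (Nat.card (N →* ℂˣ))) = 1)
    (hβ : β ^ (ordProj[q] (Nat.card (N →* ℂˣ))) = 1) :
    Phi p (linFun (α * β)) = α ∧ Phi q (linFun (α * β)) = β := by
  have hβ' : β ^ (ordCompl[p] (Nat.card (N →* ℂˣ))) = 1 :=
    pow_ordCompl_eq_one_of_pow_prime (A := N →* ℂˣ) hp hq hpq hβ
  have hα' : α ^ (ordCompl[q] (Nat.card (N →* ℂˣ))) = 1 :=
    pow_ordCompl_eq_one_of_pow_prime (A := N →* ℂˣ) hq hp hpq.symm hα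
  constructor
  · rw [Phi_linFun_mul, Phi_linFun_of_ordProj hp hα, Phi_linFun_of_ordCompl p hβ']
    exact mul_one (M := N →* ℂˣ) α
  · rw [Phi_linFun_mul, Phi_linFun_of_ordProj hq hβ, Phi_linFun_of_ordCompl q hα']
    exact one_mul (M := N →* ℂˣ) β

/-- **Main reachability lemma**: two vertices `a`, `b` of `Γ(G|N)` (`N ≤ G'`) such that some prime
divisor `p` of `|N : N'|` does not divide `a` and some prime divisor `q` of `|N : N'|` does not
divide `b` are joined by a path. -/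
theorem reach_main (hNG : N ≤ commutator G) {p q : ℕ} (hp : p.Prime) (hq : q.Prime)
    (hpm : p ∣ ⁅N, N⁆.relIndex N) (hqm : q ∣ ⁅N, N⁆.relIndex N)
    (a b : ℕ) (ha : a ∈ relCharDegrees N) (hb : b ∈ relCharDegrees N)
    (hpa : ¬ p ∣ a) (hqb : ¬ q ∣ b) :
    (commonDivisorGraph.induce (relCharDegrees N)).Reachable ⟨a, ha⟩ ⟨b, hb⟩ := by
  obtain ⟨⟨χ, hχ⟩, hχN, hχa⟩ := ha
  obtain ⟨⟨ψ, hψ⟩, hψN, hψb⟩ := hb
  simp only at hχN hχa hψN hψb
  subst hχa
  subst hψb
  obtain ⟨θ, hθ, hθχ, hθ1⟩ := exists_over_ne_one N hχ hχN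
  obtain ⟨η, hη, hηψ, hη1⟩ := exists_over_ne_one N hψ hψN
  have oχ : Over N χ θ := ⟨hχ, hθ, hθχ⟩
  have oψ : Over N ψ η := ⟨hψ, hη, hηψ⟩
  have hθc := IsIrrCharacter.isCharacter hθ
  have hηc := IsIrrCharacter.isCharacter hη
  have hpθ : ¬ p ∣ charDegree θ := fun hd => hpa (hd.trans oχ.degree_dvd)
  have hqη : ¬ q ∣ charDegree η := fun hd => hqb (hd.trans oψ.degree_dvd)
  obtain ⟨κp, hκp1, hκpp⟩ := Helper79.RelDeg.exists_lin_pow_prime_eq_one N p hp hpm
  obtain ⟨κq, hκq1, hκqq⟩ := Helper79.RelDeg.exists_lin_pow_prime_eq_one N q hq hqm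
  have hκp := pow_ordProj_of_pow_prime hp hκpp
  have hκq := pow_ordProj_of_pow_prime hq hκqq
  have hlp := Phi_pow_ordProj p θ
  have hmq := Phi_pow_ordProj q η
  by_cases hpq : p = q
  · subst hpq
    by_cases hcop : Nat.Coprime (charDegree χ) (charDegree ψ)
    swap
    · apply reach_of_gcd
      have h0 : 0 < Nat.gcd (charDegree χ) (charDegree ψ) := Nat.gcd_pos_of_pos_left _ oχ.pos
      unfold Nat.Coprime at hcop
      omega
    by_cases hl : Phi p θ = 1 <;> by_cases hm : Phi p η = 1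
    · -- (1d)
      obtain ⟨χ₁, o₁⟩ := exists_over (N := N) (G := G) (isIrrCharacter_linFun_mul κp hθ)
      obtain ⟨χ₂, o₂⟩ := exists_over (N := N) (G := G) (isIrrCharacter_linFun_mul κp hη)
      have e1 : Phi p (linFun κp * θ) = κp := by
        rw [Phi_twist hp hθc hpθ hκp, hl]; exact mul_one (M := N →* ℂˣ) κp
      have e2 : Phi p (linFun κp * η) = κp := by
        rw [Phi_twist hp hηc hqη hκp, hm]; exact mul_one (M := N →* ℂˣ) κp
      have m1 := o₁.mem (ne_linFun_one_of_Phi_ne_one N (r := p) (by rw [e1]; exact hκp1))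
      have m2 := o₂.mem (ne_linFun_one_of_Phi_ne_one N (r := p) (by rw [e2]; exact hκp1))
      have g1 := adj1 hNG hp oχ hθ1 hpa hl hκp o₁
      have g2 := adj2 hNG hp o₁ o₂ (e1.trans e2.symm) (by rw [e1]; exact hκp1)
      have g3 := adj1 hNG hp oψ hη1 hqb hm hκp o₂
      rw [Nat.gcd_comm] at g1
      exact ((reach_of_gcd _ m1 g1).trans (reach_of_gcd m1 m2 g2)).trans (reach_of_gcd m2 _ g3)
    · -- (1b)
      obtain ⟨χ₁, o₁⟩ := exists_over (N := N) (G := G) (isIrrCharacter_linFun_mul (Phi p η) hθ)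
      have e1 : Phi p (linFun (Phi p η) * θ) = Phi p η := by
        rw [Phi_twist hp hθc hpθ hmq, hl]; exact mul_one (M := N →* ℂˣ) _
      have m1 := o₁.mem (ne_linFun_one_of_Phi_ne_one N (r := p) (by rw [e1]; exact hm))
      have g1 := adj1 hNG hp oχ hθ1 hpa hl hmq o₁
      have g2 := adj2 hNG hp o₁ oψ e1 (by rw [e1]; exact hm)
      rw [Nat.gcd_comm] at g1
      exact (reach_of_gcd _ m1 g1).trans (reach_of_gcd m1 _ g2)
    · -- (1c)
      obtain ⟨χ₁, o₁⟩ := exists_over (N := N) (G := G) (isIrrCharacter_linFun_mul (Phi p θ) hη)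
      have e1 : Phi p (linFun (Phi p θ) * η) = Phi p θ := by
        rw [Phi_twist hp hηc hqη hlp, hm]; exact mul_one (M := N →* ℂˣ) _
      have m1 := o₁.mem (ne_linFun_one_of_Phi_ne_one N (r := p) (by rw [e1]; exact hl))
      have g1 := adj2 hNG hp oχ o₁ e1.symm hl
      have g2 := adj1 hNG hp oψ hη1 hqb hm hlp o₁
      exact (reach_of_gcd _ m1 g1).trans (reach_of_gcd m1 _ g2)
    · -- (1a)
      obtain ⟨χ₁, o₁⟩ := exists_over (N := N) (G := G)
        (isIrrCharacter_linFun (Phi p θ * Phi p η))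
      obtain ⟨g1, g2, hne⟩ := adj4 hNG hp oχ oψ hpa hqb hcop hl hm o₁
      have m1 := o₁.mem (linFun_ne_one hne)
      exact (reach_of_gcd _ m1 g1).trans (reach_of_gcd m1 _ g2)
  · by_cases hl : Phi p θ = 1 <;> by_cases hm : Phi q η = 1
    · -- (Ad)
      obtain ⟨χ₁, o₁⟩ := exists_over (N := N) (G := G) (isIrrCharacter_linFun_mul κp hθ)
      obtain ⟨χ₂, o₂⟩ := exists_over (N := N) (G := G) (isIrrCharacter_linFun (κp * κq))
      obtain ⟨χ₃, o₃⟩ := exists_over (N := N) (G := G) (isIrrCharacter_linFun_mul κq hη)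
      have e1 : Phi p (linFun κp * θ) = κp := by
        rw [Phi_twist hp hθc hpθ hκp, hl]; exact mul_one (M := N →* ℂˣ) κp
      have e3 : Phi q (linFun κq * η) = κq := by
        rw [Phi_twist hq hηc hqη hκq, hm]; exact mul_one (M := N →* ℂˣ) κq
      obtain ⟨e2p, e2q⟩ := Phi_linFun_mul_primes hp hq hpq hκp hκq
      have m1 := o₁.mem (ne_linFun_one_of_Phi_ne_one N (r := p) (by rw [e1]; exact hκp1))
      have m2 := o₂.mem (ne_linFun_one_of_Phi_ne_one N (r := p) (by rw [e2p]; exact hκp1))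
      have m3 := o₃.mem (ne_linFun_one_of_Phi_ne_one N (r := q) (by rw [e3]; exact hκq1))
      have g1 := adj1 hNG hp oχ hθ1 hpa hl hκp o₁
      have g2 := adj2 hNG hp o₁ o₂ (e1.trans e2p.symm) (by rw [e1]; exact hκp1)
      have g3 := adj2 hNG hq o₂ o₃ (e2q.trans e3.symm) (by rw [e2q]; exact hκq1)
      have g4 := adj1 hNG hq oψ hη1 hqb hm hκq o₃
      rw [Nat.gcd_comm] at g1
      exact (((reach_of_gcd _ m1 g1).trans (reach_of_gcd m1 m2 g2)).trans
        (reach_of_gcd m2 m3 g3)).trans (reach_of_gcd m3 _ g4)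
    · -- (Ac)
      obtain ⟨χ₁, o₁⟩ := exists_over (N := N) (G := G) (isIrrCharacter_linFun_mul κp hθ)
      obtain ⟨χ₂, o₂⟩ := exists_over (N := N) (G := G) (isIrrCharacter_linFun (κp * Phi q η))
      have e1 : Phi p (linFun κp * θ) = κp := by
        rw [Phi_twist hp hθc hpθ hκp, hl]; exact mul_one (M := N →* ℂˣ) κp
      obtain ⟨e2p, e2q⟩ := Phi_linFun_mul_primes hp hq hpq hκp hmq
      have m1 := o₁.mem (ne_linFun_one_of_Phi_ne_one N (r := p) (by rw [e1]; exact hκp1))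
      have m2 := o₂.mem (ne_linFun_one_of_Phi_ne_one N (r := p) (by rw [e2p]; exact hκp1))
      have g1 := adj1 hNG hp oχ hθ1 hpa hl hκp o₁
      have g2 := adj2 hNG hp o₁ o₂ (e1.trans e2p.symm) (by rw [e1]; exact hκp1)
      have g3 := adj2 hNG hq o₂ oψ e2q (by rw [e2q]; exact hm)
      rw [Nat.gcd_comm] at g1
      exact ((reach_of_gcd _ m1 g1).trans (reach_of_gcd m1 m2 g2)).trans (reach_of_gcd m2 _ g3)
    · -- (Ab)
      obtain ⟨χ₁, o₁⟩ := exists_over (N := N) (G := G) (isIrrCharacter_linFun (Phi p θ * κq))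
      obtain ⟨χ₂, o₂⟩ := exists_over (N := N) (G := G) (isIrrCharacter_linFun_mul κq hη)
      obtain ⟨e1p, e1q⟩ := Phi_linFun_mul_primes hp hq hpq hlp hκq
      have e2 : Phi q (linFun κq * η) = κq := by
        rw [Phi_twist hq hηc hqη hκq, hm]; exact mul_one (M := N →* ℂˣ) κq
      have m1 := o₁.mem (ne_linFun_one_of_Phi_ne_one N (r := p) (by rw [e1p]; exact hl))
      have m2 := o₂.mem (ne_linFun_one_of_Phi_ne_one N (r := q) (by rw [e2]; exact hκq1))
      have g1 := adj2 hNG hp oχ o₁ e1p.symm hl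
      have g2 := adj2 hNG hq o₁ o₂ (e1q.trans e2.symm) (by rw [e1q]; exact hκq1)
      have g3 := adj1 hNG hq oψ hη1 hqb hm hκq o₂
      exact ((reach_of_gcd _ m1 g1).trans (reach_of_gcd m1 m2 g2)).trans (reach_of_gcd m2 _ g3)
    · -- (Aa)
      obtain ⟨χ₁, o₁⟩ := exists_over (N := N) (G := G)
        (isIrrCharacter_linFun (Phi p θ * Phi q η))
      obtain ⟨e1p, e1q⟩ := Phi_linFun_mul_primes hp hq hpq hlp hmq
      have m1 := o₁.mem (ne_linFun_one_of_Phi_ne_one N (r := p) (by rw [e1p]; exact hl))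
      have g1 := adj2 hNG hp oχ o₁ e1p.symm hl
      have g2 := adj2 hNG hq o₁ oψ e1q (by rw [e1q]; exact hm)
      exact (reach_of_gcd _ m1 g1).trans (reach_of_gcd m1 _ g2)

end

end Cfsg.Agent.Helper80.RelDeg
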